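import Groth.Agent.Calg6.CMSop
import Groth.Agent.Calg6.TorAcyclic
import Groth.Agent.PropsBasic.TorFlatBC
import Groth.Agent.HTopHyper.HTor.TorFlat
import Groth.Agent.Ega4Algebra2.CMUnmixed
import Groth.Agent.FrobLCI.RegularSpread
import Groth.Prelude.Def_DRing2
import Mathlib

/-!
Tor-independence of two complete intersections meeting in the expected codimension in a
Cohen–Macaulay ring.
-/

set_option autoImplicit false

universe u

open CategoryTheory RingTheory.Sequence IsLocalRing
open scoped TensorProduct Pointwise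

namespace Groth.CMTorIndep

variable {A : Type u} [CommRing A]

/-- `Tor` is invariant under linear equivalences. -/
theorem tor_congr {M M' N N' : Type u} [AddCommGroup M] [Module A M] [AddCommGroup M'] [Module A M']
    [AddCommGroup N] [Module A N] [AddCommGroup N'] [Module A N'] (eM : M ≃ₗ[A] M') (eN : N ≃ₗ[A] N')
    (n : ℕ) : Nonempty (DRing.Tor A n M N ≃ₗ[A] DRing.Tor A n M' N') :=
  ⟨((((CategoryTheory.Tor (ModuleCat.{u} A) n).mapIso eM.toModuleIso).app (ModuleCat.of A N)) ≪≫
    ((CategoryTheory.Tor (ModuleCat.{u} A) n).obj (ModuleCat.of A M')).mapIso eN.toModuleIso).toLinearEquiv⟩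

/-- A sequence regular on `M` and on `M ⊗ N` preserves the vanishing of higher Tor against `N`. -/
theorem tor_quotient_vanish (N : Type u) [AddCommGroup N] [Module A N] (l : List A) :
    ∀ (M : Type u) [AddCommGroup M] [Module A M],
      IsWeaklyRegular M l → IsWeaklyRegular (M ⊗[A] N) l →
      (∀ i : ℕ, Subsingleton (DRing.Tor A (i + 1) M N)) →
      ∀ i : ℕ, Subsingleton (DRing.Tor A (i + 1) (M ⧸ Ideal.ofList l • (⊤ : Submodule A M)) N) := by
  induction l with
  | nil =>
    intro M _ _ _ _ h i
    obtain ⟨e⟩ := tor_congr (Submodule.quotEquivOfEqBot (Ideal.ofList ([] : List A) • (⊤ : Submodule A M))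
      (by simp)) (LinearEquiv.refl A N) (i + 1)
    have := h i
    exact e.toEquiv.subsingleton
  | cons x l ih =>
    intro M _ _ hM hMN h i
    obtain ⟨hx, hM'⟩ := (isWeaklyRegular_cons_iff M x l).mp hM
    obtain ⟨hxN, hMN'⟩ := (isWeaklyRegular_cons_iff (M ⊗[A] N) x l).mp hMN
    have hN' : IsWeaklyRegular (QuotSMulTop x M ⊗[A] N) l :=
      ((QuotSMulTop.quotSMulTopTensorEquivQuotSMulTop x N M).isWeaklyRegular_congr l).mpr hMN'
    have hv : Function.Injective (LinearMap.lsmul A M x) := hx
    have hρ : Function.Surjective (Submodule.mkQ (x • (⊤ : Submodule A M))) := Submodule.mkQ_surjective _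
    have hex : Function.Exact (LinearMap.lsmul A M x) (Submodule.mkQ (x • (⊤ : Submodule A M))) := by
      intro m
      rw [Submodule.mkQ_apply, Submodule.Quotient.mk_eq_zero, Submodule.mem_smul_pointwise_iff_exists]
      simp [Set.mem_range]
    have hstep : ∀ j : ℕ, Subsingleton (DRing.Tor A (j + 1) (QuotSMulTop x M) N) := by
      intro j
      cases j with
      | zero =>
        obtain ⟨e⟩ := Groth.Calg6.TorAcyclic.tor_one hv hρ hex N (h 0)
        have hinj : Function.Injective ((LinearMap.lsmul A M x).rTensor N) := by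
          have : ∀ t, (LinearMap.lsmul A M x).rTensor N t = x • t := fun t => by
            induction t with
            | zero => simp
            | add a b ha hb => rw [map_add, ha, hb, smul_add]
            | tmul m n => rw [LinearMap.rTensor_tmul, LinearMap.lsmul_apply, TensorProduct.smul_tmul']
          intro a b hab
          rw [this, this] at hab
          exact hxN hab
        exact (e.trans (LinearEquiv.ofEq _ _ (LinearMap.ker_eq_bot.2 hinj))).toEquiv.subsingleton
      | succ j =>
        obtain ⟨e⟩ := Groth.Calg6.TorAcyclic.tor_shift hv hρ hex N j (h j) (h (j + 1))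
        have := h j
        exact e.toEquiv.subsingleton
    have := ih (QuotSMulTop x M) hM' hN' hstep i
    obtain ⟨e⟩ := tor_congr (Submodule.quotOfListConsSMulTopEquivQuotSMulTopInner M x l)
      (LinearEquiv.refl A N) (i + 1)
    exact e.toEquiv.subsingleton

/-- Quotient by `J • ⊤` in the ring itself. -/
noncomputable def quotSelfEquiv (J : Ideal A) : (A ⧸ J • (⊤ : Submodule A A)) ≃ₗ[A] A ⧸ J :=
  Submodule.quotEquivOfEq _ _ (by rw [smul_eq_mul, Ideal.mul_top])

/-- Tor-independence from a regular sequence which stays regular modulo `K`. -/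
theorem tor_indep (l ks : List A) (h : IsWeaklyRegular A l) (h' : IsWeaklyRegular A (ks ++ l)) (i : ℕ) :
    Subsingleton (DRing.Tor A (i + 1) (A ⧸ Ideal.ofList l) (A ⧸ Ideal.ofList ks)) := by
  have h0 : ∀ j : ℕ, Subsingleton (DRing.Tor A (j + 1) A (A ⧸ Ideal.ofList ks)) := fun j =>
    Groth.HTorLib.subsingleton_tor_of_flat_left A (A ⧸ Ideal.ofList ks) j
  have h2 : IsWeaklyRegular (A ⊗[A] (A ⧸ Ideal.ofList ks)) l := by
    refine ((TensorProduct.lid A (A ⧸ Ideal.ofList ks)).isWeaklyRegular_congr l).mpr ?_
    exact ((quotSelfEquiv (Ideal.ofList ks)).isWeaklyRegular_congr l).mp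
      ((isWeaklyRegular_append_iff A ks l).mp h').2
  have := tor_quotient_vanish (A ⧸ Ideal.ofList ks) l A h h2 h0 i
  obtain ⟨e⟩ := tor_congr (quotSelfEquiv (Ideal.ofList l))
    (LinearEquiv.refl A (A ⧸ Ideal.ofList ks)) (i + 1)
  exact e.symm.toEquiv.subsingleton

/-- In a Cohen–Macaulay local ring, as many elements as the height of the ideal they generate form a
regular sequence. -/
theorem isWeaklyRegular_of_length_le_height [IsLocalRing A] [IsNoetherianRing A]
    (hA : LocCoh.IsCohenMacaulayModule A A) (l : List A) (hm : Ideal.ofList l ≠ ⊤)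
    (hht : (l.length : ℕ∞) ≤ (Ideal.ofList l).height) : IsWeaklyRegular A l := by
  have hmem : ∀ x ∈ l, x ∈ maximalIdeal A := fun x hx =>
    IsLocalRing.le_maximalIdeal hm (Ideal.subset_span hx)
  refine Groth.Calg6.isWeaklyRegular_of_supportDim_add_length_le l A hA hmem ?_
  rw [Module.supportDim_eq_of_equiv (quotSelfEquiv _),
    Module.supportDim_quotient_eq_ringKrullDim, Module.supportDim_self_eq_ringKrullDim]
  refine le_trans ?_ (Groth.Ega4b.ringKrullDim_quotient_add_height_le hm)
  gcongr
  exact_mod_cast hht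

end Groth.CMTorIndep
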