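import Groth.Agent.CMTorIndep.Alg
import Groth.Agent.KoszulLCI.LocallyRegular
import Groth.Agent.HTopHyper.HTor.BaseChange
import Groth.Prelude.Def_RegImm
import Mathlib

/-!
Intersections of regular immersions in Cohen–Macaulay schemes in the expected codimension.
-/

set_option autoImplicit false

universe u

open CategoryTheory Limits AlgebraicGeometry RingTheory.Sequence
open scoped TensorProduct

namespace Groth.CMTorIndep

section Chart

variable {X Z : Scheme.{u}}

/-- Near `q` the ideal is generated by a weakly regular sequence of length `n`. -/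
def LRegLen {C : Type u} [CommRing C] (n : ℕ) (I q : Ideal C) : Prop :=
  ∃ g ∉ q, ∃ hs : List C, hs.length = n ∧
    IsWeaklyRegular (Localization.Away g) (hs.map (algebraMap C (Localization.Away g))) ∧
    Ideal.ofList (hs.map (algebraMap C (Localization.Away g))) = I.map (algebraMap C (Localization.Away g))

theorem lRegLen_of_ofCodim (i : Z ⟶ X) {n : ℕ}
    (h : RegImm.IsRegularImmersionOfCodim RegImm.Kind.regular n i) (z : Z) (U : X.affineOpens)
    (hz : i z ∈ U.1) [IsClosedImmersion (i ∣_ U.1)] :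
    LRegLen n (RingHom.ker (i.app U.1).hom) (U.2.primeIdealOf ⟨i z, hz⟩).asIdeal := by
  obtain ⟨V, hzV, hciV, rs, hlen, hrs, hker⟩ := h.2 z
  obtain ⟨b, c, hbc, hzb⟩ := exists_basicOpen_le_affine_inter U.2 V.2 (i z) ⟨hz, hzV⟩
  let _ := (X.presheaf.map (homOfLE (X.basicOpen_le c)).op).hom.toAlgebra
  have := V.2.isLocalization_basicOpen c
  have hflat : Module.Flat Γ(X, V.1) Γ(X, X.basicOpen c) := IsLocalization.flat _ (Submonoid.powers c)
  have hk : RingHom.ker (i.app (X.basicOpen c)).hom =
      Ideal.ofList (rs.map (algebraMap Γ(X, V.1) Γ(X, X.basicOpen c))) := by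
    rw [Groth.KoszulLCI.ker_app_basicOpen i V.2 c, hker, Ideal.map_ofList]
    rfl
  have hw : IsWeaklyRegular Γ(X, X.basicOpen c) (rs.map (algebraMap Γ(X, V.1) Γ(X, X.basicOpen c))) :=
    hrs.toIsWeaklyRegular.of_flat
  have hlen' : (rs.map (algebraMap Γ(X, V.1) Γ(X, X.basicOpen c))).length = n := by
    rw [List.length_map, hlen]
  revert hk hw hlen'
  generalize rs.map (algebraMap Γ(X, V.1) Γ(X, X.basicOpen c)) = l
  revert l
  rw [← hbc]
  intro l hk hw hlen'
  let _ := (X.presheaf.map (homOfLE (X.basicOpen_le b)).op).hom.toAlgebra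
  have := U.2.isLocalization_basicOpen b
  have hk' : Ideal.ofList l = (RingHom.ker (i.app U.1).hom).map (algebraMap Γ(X, U.1) Γ(X, X.basicOpen b)) :=
    hk.symm.trans (Groth.KoszulLCI.ker_app_basicOpen i U.2 b)
  choose a ha using fun x : Γ(X, X.basicOpen b) => IsLocalization.surj (Submonoid.powers b) x
  let e := IsLocalization.algEquiv (Submonoid.powers b) Γ(X, X.basicOpen b) (Localization.Away b)
  let hs : List Γ(X, U.1) := l.map fun x => (a x).1
  have hass : List.Forall₂ Associated (l.map e) (hs.map (algebraMap Γ(X, U.1) (Localization.Away b))) := by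
    simp only [hs, List.map_map]
    rw [List.forall₂_map_left_iff]
    refine List.forall₂_map_right_iff.mpr (List.forall₂_same.mpr fun x _ => ?_)
    refine ⟨(IsLocalization.map_units (Localization.Away b) (a x).2).unit, ?_⟩
    rw [IsUnit.unit_spec, ← e.commutes, ← map_mul, ha, e.commutes]
    rfl
  have hwe : IsWeaklyRegular (Localization.Away b) (l.map e) :=
    (e.toRingEquiv.toAddEquiv.isWeaklyRegular_congr (List.forall₂_map_right_iff.mpr
      (List.forall₂_same.mpr fun r _ x => map_mul e r x))).mp hw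
  refine ⟨b, (Groth.KoszulLCI.mem_basicOpen_iff U.2 b hz).mp hzb, hs, by rw [List.length_map, hlen'],
    Groth.FrobLCI.RegularSpread.isWeaklyRegular_of_forall₂ hass hwe, ?_⟩
  rw [← Groth.FrobLCI.RegularSpread.ofList_eq_of_forall₂ hass]
  have := congrArg (Ideal.map (e : Γ(X, X.basicOpen b) →+* Localization.Away b)) hk'
  rw [Ideal.map_ofList, Ideal.map_map] at this
  exact this.trans (congrArg (fun φ => Ideal.map φ (RingHom.ker (i.app U.1).hom)) (RingHom.ext fun x => e.commutes x))

theorem exists_chart_of_lRegLen (i : Z ⟶ X) (z : Z) (U : X.affineOpens) (hz : i z ∈ U.1) {n : ℕ}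
    [IsClosedImmersion (i ∣_ U.1)]
    (h : LRegLen n (RingHom.ker (i.app U.1).hom) (U.2.primeIdealOf ⟨i z, hz⟩).asIdeal) :
    ∃ U : X.affineOpens, i z ∈ U.1 ∧ IsClosedImmersion (i ∣_ U.1) ∧
      ∃ rs : List Γ(X, U.1), rs.length = n ∧ RegImm.Kind.regular.Seq Γ(X, U.1) rs ∧
        RingHom.ker (i.app U.1).hom = Ideal.ofList rs := by
  obtain ⟨g, hg, hs, hlen, hw, hI⟩ := h
  let _ := (X.presheaf.map (homOfLE (X.basicOpen_le g)).op).hom.toAlgebra
  have := U.2.isLocalization_basicOpen g
  let e' := IsLocalization.algEquiv (Submonoid.powers g) (Localization.Away g) Γ(X, X.basicOpen g)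
  let θ : Localization.Away g →+* Γ(X, X.basicOpen g) := e'
  have hcomp : θ.comp (algebraMap _ _) =
      (X.presheaf.map (homOfLE (X.basicOpen_le g)).op).hom := RingHom.ext fun a => e'.commutes a
  have hzg : i z ∈ X.basicOpen g := (Groth.KoszulLCI.mem_basicOpen_iff U.2 g hz).mpr hg
  have hker : RingHom.ker (i.app (X.basicOpen g)).hom =
      Ideal.ofList ((hs.map (algebraMap _ (Localization.Away g))).map θ) := by
    rw [← Ideal.map_ofList θ, hI, Ideal.map_map, hcomp]
    exact Groth.KoszulLCI.ker_app_basicOpen i U.2 g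
  refine ⟨⟨X.basicOpen g, U.2.basicOpen g⟩, hzg,
    Groth.KoszulReg.isClosedImmersion_restrict i (X.basicOpen_le g),
    (hs.map (algebraMap _ (Localization.Away g))).map θ, by simp [hlen], ?_, hker⟩
  refine ⟨(e'.toRingEquiv.toAddEquiv.isWeaklyRegular_congr (List.forall₂_map_right_iff.mpr
      (List.forall₂_same.mpr fun r _ x => map_mul e' r x))).mp hw, ?_⟩
  rw [smul_eq_mul, Ideal.mul_top, ← hker]
  exact (ne_top_of_le_ne_top ((U.2.basicOpen g).primeIdealOf ⟨i z, hzg⟩).isPrime.ne_top
    (Groth.KoszulLCI.ker_app_le_primeIdealOf i (U.2.basicOpen g) z hzg)).symm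

end Chart

section Ring

variable {R : Type u} [CommRing R]

theorem lRegLen_atPrime {n : ℕ} {I p : Ideal R} [p.IsPrime] (h : LRegLen n I p) :
    ∃ hs : List R, hs.length = n ∧
      IsWeaklyRegular (Localization.AtPrime p) (hs.map (algebraMap R (Localization.AtPrime p))) ∧
      Ideal.ofList (hs.map (algebraMap R (Localization.AtPrime p))) =
        I.map (algebraMap R (Localization.AtPrime p)) := by
  obtain ⟨g, hg, hs, hlen, hw, hI⟩ := h
  let θ : Localization.Away g →+* Localization.AtPrime p :=
    IsLocalization.Away.lift g (IsLocalization.map_units (Localization.AtPrime p) (⟨g, hg⟩ : p.primeCompl))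
  let _ := θ.toAlgebra
  have : IsScalarTower R (Localization.Away g) (Localization.AtPrime p) := .of_algebraMap_eq fun x =>
    (IsLocalization.Away.lift_eq g _ x).symm
  have : Module.Flat (Localization.Away g) (Localization.AtPrime p) :=
    (Module.flat_iff_of_isLocalization (Localization.Away g) (Submonoid.powers g) _).mpr inferInstance
  have hmap : hs.map (algebraMap R (Localization.AtPrime p)) =
      (hs.map (algebraMap R (Localization.Away g))).map
        (algebraMap (Localization.Away g) (Localization.AtPrime p)) := by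
    rw [List.map_map]
    exact List.map_congr_left fun x _ => IsScalarTower.algebraMap_apply R (Localization.Away g) _ x
  refine ⟨hs, hlen, ?_, ?_⟩
  · rw [hmap]; exact hw.of_flat
  · rw [hmap, ← Ideal.map_ofList, hI, Ideal.map_map, ← IsScalarTower.algebraMap_eq]

/-- Heights are computed by the primes containing the ideal. -/
theorem le_height_map_atPrime {I p : Ideal R} [p.IsPrime] {n : ℕ}
    (h : ∀ q : Ideal R, q.IsPrime → I ≤ q → q ≤ p → (n : ℕ∞) ≤ q.height) :
    (n : ℕ∞) ≤ (I.map (algebraMap R (Localization.AtPrime p))).height := by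
  rw [Ideal.height_eq_inf_minimalPrimes]
  refine le_iInf₂ fun Q hQ => ?_
  have := hQ.1.1
  rw [← IsLocalization.height_comap p.primeCompl Q]
  refine h _ inferInstance (Ideal.map_le_iff_le_comap.1 hQ.1.2) ?_
  have hle := IsLocalRing.le_maximalIdeal (hQ.1.1.ne_top)
  exact (Ideal.comap_mono hle).trans (le_of_eq (IsLocalization.AtPrime.under_maximalIdeal _ p))

/-- The two pieces of a complete intersection in the expected codimension, at a prime. -/
theorem regular_append_atPrime [IsNoetherianRing R] {I J p : Ideal R} [p.IsPrime]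
    (hCM : LocCoh.IsCohenMacaulayLocalRing (Localization.AtPrime p)) {a b : ℕ}
    (hI : LRegLen a I p) (hJ : LRegLen b J p) (hp : I ⊔ J ≤ p)
    (hht : ∀ q : Ideal R, q.IsPrime → I ⊔ J ≤ q → q ≤ p → ((a + b : ℕ) : ℕ∞) ≤ q.height) :
    ∃ l ks : List R, l.length = a ∧ ks.length = b ∧
      Ideal.ofList (l.map (algebraMap R (Localization.AtPrime p))) =
        I.map (algebraMap R (Localization.AtPrime p)) ∧
      Ideal.ofList (ks.map (algebraMap R (Localization.AtPrime p))) =
        J.map (algebraMap R (Localization.AtPrime p)) ∧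
      IsWeaklyRegular (Localization.AtPrime p) (l.map (algebraMap R (Localization.AtPrime p))) ∧
      IsWeaklyRegular (Localization.AtPrime p) ((ks ++ l).map (algebraMap R (Localization.AtPrime p))) := by
  obtain ⟨l, hl, hlw, hlI⟩ := lRegLen_atPrime hI
  obtain ⟨ks, hks, hksw, hksJ⟩ := lRegLen_atPrime hJ
  have hsup : ∀ s t : List R, Ideal.ofList ((s ++ t).map (algebraMap R (Localization.AtPrime p))) =
      Ideal.ofList (s.map (algebraMap R (Localization.AtPrime p))) ⊔
        Ideal.ofList (t.map (algebraMap R (Localization.AtPrime p))) := fun s t => by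
    rw [List.map_append, Ideal.ofList_append]
  have hne : (I ⊔ J).map (algebraMap R (Localization.AtPrime p)) ≠ ⊤ := by
    refine ne_top_of_le_ne_top (IsLocalRing.maximalIdeal.isMaximal _).ne_top ((Ideal.map_mono hp).trans ?_)
    rw [Localization.AtPrime.map_eq_maximalIdeal]
  have hCM' : LocCoh.IsCohenMacaulayModule (Localization.AtPrime p) (Localization.AtPrime p) :=
    hCM.supportDim_eq_depth
  refine ⟨l, ks, hl, hks, hlI, hksJ, hlw, ?_⟩
  refine isWeaklyRegular_of_length_le_height hCM' _ ?_ ?_
  · rw [hsup, hlI, hksJ, sup_comm, ← Ideal.map_sup]; exact hne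
  · rw [hsup, hlI, hksJ, sup_comm, ← Ideal.map_sup]
    refine le_trans (le_of_eq ?_) (le_height_map_atPrime hht)
    simp only [List.length_map, List.length_append, hl, hks, add_comm]

theorem lRegLen_sup [IsNoetherianRing R] {I J p : Ideal R} [p.IsPrime]
    (hCM : LocCoh.IsCohenMacaulayLocalRing (Localization.AtPrime p)) {a b : ℕ}
    (hI : LRegLen a I p) (hJ : LRegLen b J p) (hp : I ⊔ J ≤ p)
    (hht : ∀ q : Ideal R, q.IsPrime → I ⊔ J ≤ q → q ≤ p → ((a + b : ℕ) : ℕ∞) ≤ q.height) :
    LRegLen (a + b) (I ⊔ J) p := by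
  obtain ⟨g₁, hg₁, hs, hhs, hw₁, hI₁⟩ := hI
  obtain ⟨g₂, hg₂, ks, hks, hw₂, hJ₂⟩ := hJ
  have hIp : LRegLen a I p := ⟨g₁, hg₁, hs, hhs, hw₁, hI₁⟩
  have hat : ∀ {m : List R} {K : Ideal R} {g : R}, g ∉ p →
      Ideal.ofList (m.map (algebraMap R (Localization.Away g))) = K.map (algebraMap R (Localization.Away g)) →
      Ideal.ofList (m.map (algebraMap R (Localization.AtPrime p))) =
        K.map (algebraMap R (Localization.AtPrime p)) := by
    intro m K g hg h
    let θ : Localization.Away g →+* Localization.AtPrime p :=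
      IsLocalization.Away.lift g (IsLocalization.map_units (Localization.AtPrime p) (⟨g, hg⟩ : p.primeCompl))
    have hθ : θ.comp (algebraMap R _) = algebraMap R _ := IsLocalization.Away.lift_comp g _
    have := congrArg (Ideal.map θ) h
    rwa [Ideal.map_ofList, List.map_map, ← RingHom.coe_comp, hθ, Ideal.map_map, hθ] at this
  have hsum : Ideal.ofList ((hs ++ ks).map (algebraMap R (Localization.AtPrime p))) =
      (I ⊔ J).map (algebraMap R (Localization.AtPrime p)) := by
    rw [List.map_append, Ideal.ofList_append, hat hg₁ hI₁, hat hg₂ hJ₂, Ideal.map_sup]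
  have hne : (I ⊔ J).map (algebraMap R (Localization.AtPrime p)) ≠ ⊤ := by
    refine ne_top_of_le_ne_top (IsLocalRing.maximalIdeal.isMaximal _).ne_top ((Ideal.map_mono hp).trans ?_)
    rw [Localization.AtPrime.map_eq_maximalIdeal]
  have hw : IsWeaklyRegular (Localization.AtPrime p) ((hs ++ ks).map (algebraMap R (Localization.AtPrime p))) := by
    refine isWeaklyRegular_of_length_le_height hCM.supportDim_eq_depth _ (hsum ▸ hne) ?_
    rw [hsum]
    refine le_trans (le_of_eq ?_) (le_height_map_atPrime hht)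
    simp only [List.length_map, List.length_append, hhs, hks]
  obtain ⟨t, ht, htr⟩ := Groth.FrobLCI.RegularSpread.exists_away p _ hw
  refine ⟨t * (g₁ * g₂), fun h => ?_, hs ++ ks, by simp [hhs, hks], htr _ (dvd_mul_right _ _), ?_⟩
  · rcases Ideal.IsPrime.mem_or_mem inferInstance h with h | h
    · exact ht h
    · exact (Ideal.IsPrime.mem_or_mem inferInstance h).elim hg₁ hg₂
  · have e1 : t * (g₁ * g₂) = g₁ * (t * g₂) := by ring
    have e2 : t * (g₁ * g₂) = g₂ * (t * g₁) := by ring
    have h1 : Ideal.ofList (hs.map (algebraMap R (Localization.Away (t * (g₁ * g₂))))) =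
        I.map (algebraMap R (Localization.Away (t * (g₁ * g₂)))) := by
      rw [e1]; exact Groth.KoszulLCI.ofList_away_mul g₁ (t * g₂) hI₁
    have h2 : Ideal.ofList (ks.map (algebraMap R (Localization.Away (t * (g₁ * g₂))))) =
        J.map (algebraMap R (Localization.Away (t * (g₁ * g₂)))) := by
      rw [e2]; exact Groth.KoszulLCI.ofList_away_mul g₂ (t * g₁) hJ₂
    rw [List.map_append, Ideal.ofList_append, h1, h2, Ideal.map_sup]

/-- Localization of the quotient by an ideal. -/
noncomputable def atPrimeQuotEquiv (p : Ideal R) [p.IsPrime] (I : Ideal R) :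
    (Localization.AtPrime p ⊗[R] (R ⧸ I)) ≃ₗ[Localization.AtPrime p]
      Localization.AtPrime p ⧸ I.map (algebraMap R (Localization.AtPrime p)) :=
  (Algebra.TensorProduct.quotIdealMapEquivTensorQuot (Localization.AtPrime p) I).symm.toLinearEquiv

/-- Tor-independence in a Cohen–Macaulay ring. -/
theorem subsingleton_tor [IsNoetherianRing R]
    (hCM : ∀ (p : Ideal R) [p.IsPrime], LocCoh.IsCohenMacaulayLocalRing (Localization.AtPrime p))
    {I J : Ideal R} {a b : ℕ}
    (hI : ∀ (p : Ideal R) [p.IsPrime], I ≤ p → LRegLen a I p)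
    (hJ : ∀ (p : Ideal R) [p.IsPrime], J ≤ p → LRegLen b J p)
    (hht : ∀ q : Ideal R, q.IsPrime → I ⊔ J ≤ q → ((a + b : ℕ) : ℕ∞) ≤ q.height)
    (i : ℕ) : Subsingleton (DRing.Tor R (i + 1) (R ⧸ I) (R ⧸ J)) := by
  refine Module.subsingleton_of_localization_maximal
    (fun P _ => Localization.AtPrime P ⊗[R] DRing.Tor R (i + 1) (R ⧸ I) (R ⧸ J))
    (fun P _ => TensorProduct.mk R (Localization.AtPrime P) (DRing.Tor R (i + 1) (R ⧸ I) (R ⧸ J)) 1)
    fun P hP => ?_
  have := hP.isPrime
  let A := Localization.AtPrime P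
  obtain ⟨e⟩ := Groth.HTorLib.tor_flat_baseChange (A := R) (A' := A) (R ⧸ I) (R ⧸ J) (i + 1)
  obtain ⟨e'⟩ := tor_congr (atPrimeQuotEquiv P I) (atPrimeQuotEquiv P J) (i + 1)
  suffices Subsingleton (DRing.Tor A (i + 1) (A ⧸ I.map (algebraMap R A)) (A ⧸ J.map (algebraMap R A))) from
    (e.trans e').toEquiv.subsingleton
  by_cases hle : I ⊔ J ≤ P
  · obtain ⟨l, ks, -, -, hlI, hksJ, hlw, hw⟩ := regular_append_atPrime (hCM P)
      (hI P (le_sup_left.trans hle)) (hJ P (le_sup_right.trans hle)) hle fun q hq h _ => hht q hq h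
    rw [List.map_append] at hw
    rw [← hlI, ← hksJ]
    exact tor_indep _ _ hlw hw i
  · rw [sup_le_iff, not_and_or] at hle
    have htop : ∀ K : Ideal R, ¬ K ≤ P → K.map (algebraMap R A) = ⊤ := fun K hK => by
      obtain ⟨x, hx, hxP⟩ := SetLike.not_le_iff_exists.1 hK
      exact Ideal.eq_top_of_isUnit_mem _ (Ideal.mem_map_of_mem _ hx)
        (IsLocalization.map_units A (⟨x, hxP⟩ : P.primeCompl))
    have hflat : ∀ K : Ideal R, ¬ K ≤ P → Module.Flat A (A ⧸ K.map (algebraMap R A)) := fun K hK => by
      have : Subsingleton (A ⧸ K.map (algebraMap R A)) := Ideal.Quotient.subsingleton_iff.mpr (htop K hK)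
      infer_instance
    rcases hle with hle | hle
    · have := hflat I hle
      exact Groth.HTorLib.subsingleton_tor_of_flat_left _ _ i
    · have := hflat J hle
      exact Groth.HTorLib.subsingleton_tor_of_flat_right _ _ i

end Ring

end Groth.CMTorIndep
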